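import Groth.Agent.RelSpecLib.Basic
import Groth.Agent.S8256
import Groth.Agent.QCAlgLib.OfSite

/-! Functoriality of `specMap` and its compatibility with `gammaMap`. -/

noncomputable section

universe u

open CategoryTheory CategoryTheory.Limits AlgebraicGeometry TopologicalSpace Opposite
open RelSpec

namespace Groth.Agent.RelSpecLib

variable {S : Scheme.{u}}

lemma specMap_id (A : QCAlg S) : QCAlg.specMap (𝟙 A) = 𝟙 A.spec :=
  hom_ext A fun U hU => by
    rw [QCAlg.ι_specMap, QCAlg.id_hom, NatTrans.id_app, Spec.map_id, Category.id_comp, Category.comp_id]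

lemma specMap_comp {A B C : QCAlg S} (φ : A ⟶ B) (ψ : B ⟶ C) :
    QCAlg.specMap (φ ≫ ψ) = QCAlg.specMap ψ ≫ QCAlg.specMap φ :=
  hom_ext C fun U hU => by
    rw [← Category.assoc, QCAlg.ι_specMap, QCAlg.ι_specMap, Category.assoc, QCAlg.ι_specMap,
      ← Spec.map_comp_assoc, QCAlg.comp_hom, NatTrans.comp_app]

/-- `gammaMap` commutes with `specMap`. -/
theorem gammaMap_comp {A B : QCAlg S} (φ : A ⟶ B) :
    A.gammaMap ≫ φ.hom = AffAlg.algHom A.π B.π (QCAlg.specMap φ) (QCAlg.specMap_π φ) ≫ B.gammaMap := by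
  apply (Functor.IsCoverDense.restrictHomEquivHom (G := Scheme.AffineZariskiSite.toOpensFunctor S)
    (K := Opens.grothendieckTopology S) (ℱ := A.π.base _* A.spec.presheaf)
    (ℱ' := (⟨B.presheaf, B.isSheaf⟩ : TopCat.Sheaf CommRingCat.{u} S.carrier))).symm.injective
  ext U : 2
  obtain ⟨⟨U, hU⟩⟩ := U
  show A.gammaMap.app (op U) ≫ φ.hom.app (op U) =
    (AffAlg.algHom A.π B.π (QCAlg.specMap φ) (QCAlg.specMap_π φ)).app (op U) ≫ B.gammaMap.app (op U)
  rw [A.gammaMap_app U hU, B.gammaMap_app U hU, AffAlgLib.algHom_app]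
  simp only [QCAlg.gammaAff, Category.assoc]
  rw [← Scheme.ΓSpecIso_naturality (φ.hom.app (op U)), ← Category.assoc, ← Category.assoc]
  congr 1
  rw [Scheme.Hom.appTop, Scheme.Hom.app_eq_appLE, Scheme.Hom.appLE_comp_appLE]
  refine (Scheme.Hom.appLE_comp_appLE _ _ _ ⊤ _ _ _).trans ?_
  simp only [QCAlg.ι_specMap]
  rfl

instance isAffineHom_specMap {A B : QCAlg S} (φ : A ⟶ B) : IsAffineHom (QCAlg.specMap φ) := by
  have : IsAffineHom (QCAlg.specMap φ ≫ A.π) := by rw [QCAlg.specMap_π]; infer_instance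
  exact IsAffineHom.of_comp (QCAlg.specMap φ) A.π

end Groth.Agent.RelSpecLib
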