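import Groth.Agent.RelSpecLib.Basic
import Groth.Prelude.Def_RelProj4

/-! Existence and uniqueness of `Spec(u)` for a `q`-morphism of quasi-coherent algebras. -/

noncomputable section

universe u

open CategoryTheory CategoryTheory.Limits AlgebraicGeometry TopologicalSpace Opposite
open RelSpec

namespace Groth.Agent.RelSpecLib

variable {S S' : Scheme.{u}} {q : S' ⟶ S} {A : QCAlg S} {B : QCAlg S'} (u : QHom q A B)

lemma pairMap_res {U : S.Opens} {U' W' : S'.Opens} (hle : U' ≤ q ⁻¹ᵁ U) (i : W' ≤ U') :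
    Spec.map (B.presheaf.map (homOfLE i).op) ≫ Spec.map (u.appLE U U' hle) =
      Spec.map (u.appLE U W' (i.trans hle)) := by
  rw [← Spec.map_comp, u.appLE_map hle i]

/-- The chart equations of `Spec(u)` do not depend on the affine open of the base. -/
lemma pairMap_indep {U V : S.Opens} (hU : IsAffineOpen U) (hV : IsAffineOpen V) {U' : S'.Opens}
    (hU' : IsAffineOpen U') (hleU : U' ≤ q ⁻¹ᵁ U) (hleV : U' ≤ q ⁻¹ᵁ V) :
    Spec.map (u.appLE U U' hleU) ≫ A.ι U hU = Spec.map (u.appLE V U' hleV) ≫ A.ι V hV := by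
  refine Scheme.hom_ext_of_forall _ _ fun y => ?_
  have hy : B.π (B.ι U' hU' y) ∈ U' := by
    have h : B.ι U' hU' y ∈ (B.ι U' hU').opensRange := ⟨_, rfl⟩
    rwa [← B.π_preimage U' hU'] at h
  obtain ⟨_, ⟨W, hW, rfl⟩, hxW, hWle⟩ := S.isBasis_affineOpens.exists_subset_of_mem_open
    (show q (B.π (B.ι U' hU' y)) ∈ U ⊓ V from ⟨hleU hy, hleV hy⟩) (U ⊓ V).2
  replace hW : IsAffineOpen W := hW
  obtain ⟨_, ⟨W', hW', rfl⟩, hxW', hW'le⟩ := S'.isBasis_affineOpens.exists_subset_of_mem_open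
    (show B.π (B.ι U' hU' y) ∈ U' ⊓ q ⁻¹ᵁ W from ⟨hy, hxW⟩) (U' ⊓ q ⁻¹ᵁ W).2
  replace hW' : IsAffineOpen W' := hW'
  have iW' : W' ≤ U' := fun z hz => (hW'le hz).1
  have hleW : W' ≤ q ⁻¹ᵁ W := fun z hz => (hW'le hz).2
  let t := Spec.map (B.presheaf.map (homOfLE iW').op)
  have ht : t ≫ B.ι U' hU' = B.ι W' hW' := map_res_ι B hU' hW' iW'
  obtain ⟨z, hz⟩ := exists_ι_apply_eq B (B.ι U' hU' y) W' hW' hxW'
  have : IsOpenImmersion (t ≫ B.ι U' hU') := by rw [ht]; infer_instance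
  have : IsOpenImmersion t := IsOpenImmersion.of_comp t (B.ι U' hU')
  refine ⟨t.opensRange, ⟨z, (B.ι U' hU').isOpenEmbedding.injective ?_⟩, ?_⟩
  · rw [← Scheme.Hom.comp_apply, ht, hz]
  · rw [← cancel_epi t.isoOpensRange.hom]
    have key : ∀ (U₁ : S.Opens) (hU₁ : IsAffineOpen U₁) (hle₁ : U' ≤ q ⁻¹ᵁ U₁) (iW : W ≤ U₁),
        t ≫ Spec.map (u.appLE U₁ U' hle₁) ≫ A.ι U₁ hU₁ = Spec.map (u.appLE W W' hleW) ≫ A.ι W hW := by
      intro U₁ hU₁ hle₁ iW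
      rw [← map_res_ι A hU₁ hW iW, ← Category.assoc, pairMap_res, ← Spec.map_comp_assoc, u.map_appLE iW hleW]
    have h := (key U hU hleU fun z hz => (hWle hz).1).trans (key V hV hleV fun z hz => (hWle hz).2).symm
    simpa [Scheme.Hom.isoOpensRange] using h

/-- Existence and uniqueness of `Spec(u)`. -/
lemma existsUnique_isSpecQMap : ∃! v : B.spec ⟶ A.spec, IsSpecQMap u v := by
  let K : S'.Opens → Prop := fun U' => ∃ U : S.Opens, IsAffineOpen U ∧ U' ≤ q ⁻¹ᵁ U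
  have hK : ∀ x : S', ∃ (U' : S'.Opens) (_ : IsAffineOpen U'), x ∈ U' ∧ K U' := by
    intro x
    obtain ⟨_, ⟨U, hU, rfl⟩, hxU, -⟩ :=
      S.isBasis_affineOpens.exists_subset_of_mem_open (show q x ∈ (⊤ : S.Opens) from trivial) isOpen_univ
    obtain ⟨_, ⟨U', hU', rfl⟩, hxU', hle⟩ :=
      S'.isBasis_affineOpens.exists_subset_of_mem_open (show x ∈ q ⁻¹ᵁ U from hxU) (q ⁻¹ᵁ U).2
    exact ⟨U', hU', hxU', U, hU, hle⟩
  obtain ⟨v, hv, hu⟩ := existsUnique_glue B (Z := A.spec) K hK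
    (fun U' V' _ i ⟨U, hU, hle⟩ => ⟨U, hU, i.trans hle⟩)
    (fun U' _ k => Spec.map (u.appLE k.choose U' k.choose_spec.2) ≫ A.ι k.choose k.choose_spec.1)
    (fun U' V' hU' hV' i kU kV => by
      rw [← Category.assoc, pairMap_res]
      exact pairMap_indep u kU.choose_spec.1 kV.choose_spec.1 hV' _ _)
  refine ⟨v, fun U hU U' hU' hle => (hv U' hU' ⟨U, hU, hle⟩).trans
    (pairMap_indep u _ hU hU' _ hle), fun w hw => hu w fun U' hU' k => hw _ _ U' hU' k.choose_spec.2⟩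

lemma comp_π {v : B.spec ⟶ A.spec} (hv : IsSpecQMap u v) : v ≫ A.π = B.π ≫ q := by
  refine hom_ext B fun U' hU' => ?_
  refine Scheme.hom_ext_of_forall _ _ fun y => ?_
  have hy : B.π (B.ι U' hU' y) ∈ U' := by
    have h : B.ι U' hU' y ∈ (B.ι U' hU').opensRange := ⟨_, rfl⟩
    rwa [← B.π_preimage U' hU'] at h
  obtain ⟨_, ⟨W, hW, rfl⟩, hxW, -⟩ := S.isBasis_affineOpens.exists_subset_of_mem_open
    (show q (B.π (B.ι U' hU' y)) ∈ (⊤ : S.Opens) from trivial) isOpen_univ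
  replace hW : IsAffineOpen W := hW
  obtain ⟨_, ⟨W', hW', rfl⟩, hxW', hW'le⟩ := S'.isBasis_affineOpens.exists_subset_of_mem_open
    (show B.π (B.ι U' hU' y) ∈ U' ⊓ q ⁻¹ᵁ W from ⟨hy, hxW⟩) (U' ⊓ q ⁻¹ᵁ W).2
  replace hW' : IsAffineOpen W' := hW'
  have iW' : W' ≤ U' := fun z hz => (hW'le hz).1
  have hleW : W' ≤ q ⁻¹ᵁ W := fun z hz => (hW'le hz).2
  let t := Spec.map (B.presheaf.map (homOfLE iW').op)
  have ht : t ≫ B.ι U' hU' = B.ι W' hW' := map_res_ι B hU' hW' iW'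
  obtain ⟨z, hz⟩ := exists_ι_apply_eq B (B.ι U' hU' y) W' hW' hxW'
  have : IsOpenImmersion (t ≫ B.ι U' hU') := by rw [ht]; infer_instance
  have : IsOpenImmersion t := IsOpenImmersion.of_comp t (B.ι U' hU')
  refine ⟨t.opensRange, ⟨z, (B.ι U' hU').isOpenEmbedding.injective ?_⟩, ?_⟩
  · rw [← Scheme.Hom.comp_apply, ht, hz]
  · rw [← cancel_epi t.isoOpensRange.hom]
    have h : B.ι W' hW' ≫ v ≫ A.π = B.ι W' hW' ≫ B.π ≫ q := by
      rw [← Category.assoc, hv W hW W' hW' hleW, Category.assoc, A.ι_π, ← Spec.map_comp_assoc,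
        u.str_appLE W W' hleW, Spec.map_comp_assoc, IsAffineOpen.SpecMap_appLE_fromSpec q hW hW' hleW,
        ← Category.assoc (B.ι W' hW'), B.ι_π, Category.assoc]
    rw [← ht] at h
    simpa [Scheme.Hom.isoOpensRange] using h

end Groth.Agent.RelSpecLib
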