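import Groth.Agent.RelSpecLib.QMap

/-! The vertex section of an affine cone over a general base. -/

noncomputable section

universe u

open CategoryTheory CategoryTheory.Limits AlgebraicGeometry TopologicalSpace Opposite
open scoped HomogeneousIdeal
open RelSpec

namespace Groth.Agent.RelSpecLib

variable {S : Scheme.{u}}

set_option allowUnsafeReducibility true in
attribute [local reducible] QCAlg.unit

lemma str_comp_app {A : QCAlg S} (φ : A ⟶ QCAlg.unit S) (U : S.Opens) (r : Γ(S, U)) :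
    (φ.hom.app (op U)).hom ((A.str.app (op U)).hom r) = r :=
  congr($(NatTrans.congr_app φ.comm (op U)).hom r)

lemma isIso_unit_π : IsIso (QCAlg.unit S).π := by
  change MorphismProperty.isomorphisms Scheme _
  rw [IsZariskiLocalAtTarget.iff_of_iSup_eq_top (P := MorphismProperty.isomorphisms Scheme) _
    (iSup_affineOpens_eq_top S)]
  rintro ⟨U, hU'⟩
  have hU : IsAffineOpen U := hU'
  have e : (QCAlg.unit S).π ∣_ U = ((QCAlg.unit S).spec.isoOfEq ((QCAlg.unit S).π_preimage U hU)).hom ≫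
      ((QCAlg.unit S).ι U hU).isoOpensRange.inv ≫ hU.isoSpec.inv := by
    rw [← cancel_mono U.ι, morphismRestrict_ι, Category.assoc, Category.assoc, IsAffineOpen.isoSpec_inv_ι]
    have h : (QCAlg.unit S).ι U hU ≫ (QCAlg.unit S).π = hU.fromSpec := by
      rw [(QCAlg.unit S).ι_π U hU, show (QCAlg.unit S).str.app (op U) = 𝟙 _ from rfl]
      exact (congrArg (· ≫ hU.fromSpec) (Spec.map_id _)).trans (Category.id_comp _)
    rw [← h, Scheme.Hom.isoOpensRange_inv_comp_assoc, Scheme.isoOfEq_hom_ι_assoc]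
  show IsIso ((QCAlg.unit S).π ∣_ U)
  rw [e]
  infer_instance

/-- For an algebra retraction `φ : A ⟶ O_S`, the section of `Spec A` it defines. -/
lemma existsUnique_section {A : QCAlg S} (φ : A ⟶ QCAlg.unit S) :
    ∃! ε : S ⟶ A.spec, ε ≫ A.π = 𝟙 S ∧ ∀ (U : S.Opens) (hU : IsAffineOpen U),
      hU.fromSpec ≫ ε = Spec.map (φ.hom.app (op U)) ≫ A.ι U hU := by
  have := isIso_unit_π (S := S)
  obtain ⟨v, hv, -⟩ := existsUnique_isSpecQMap (QHom.ofHom φ)
  have hι : ∀ (U : S.Opens) (hU : IsAffineOpen U),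
      hU.fromSpec ≫ inv (QCAlg.unit S).π = (QCAlg.unit S).ι U hU := by
    intro U hU
    rw [IsIso.comp_inv_eq, (QCAlg.unit S).ι_π U hU, show (QCAlg.unit S).str.app (op U) = 𝟙 _ from rfl]
    exact ((congrArg (· ≫ hU.fromSpec) (Spec.map_id _)).trans (Category.id_comp _)).symm
  have hchart : ∀ (U : S.Opens) (hU : IsAffineOpen U),
      hU.fromSpec ≫ inv (QCAlg.unit S).π ≫ v = Spec.map (φ.hom.app (op U)) ≫ A.ι U hU := by
    intro U hU
    have h := hv U hU U hU (le_refl U)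
    have e : (QHom.ofHom φ).appLE U U (le_refl U) = φ.hom.app (op U) := by
      rw [QHom.ofHom_appLE]
      exact (congrArg (φ.hom.app (op U) ≫ ·) ((QCAlg.unit S).presheaf.map_id (op U))).trans (Category.comp_id _)
    rw [← Category.assoc, hι, h, e]
  refine ⟨inv (QCAlg.unit S).π ≫ v, ⟨?_, hchart⟩, fun ε hε => ?_⟩
  · rw [Category.assoc, comp_π _ hv, Category.comp_id, IsIso.inv_hom_id]
  · refine Scheme.hom_ext_of_forall _ _ fun x => ?_
    obtain ⟨_, ⟨U, hU, rfl⟩, hxU, -⟩ := S.isBasis_affineOpens.exists_subset_of_mem_open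
      (show x ∈ (⊤ : S.Opens) from trivial) isOpen_univ
    replace hU : IsAffineOpen U := hU
    refine ⟨U, hxU, ?_⟩
    rw [← cancel_epi hU.isoSpec.inv, IsAffineOpen.isoSpec_inv_ι_assoc, IsAffineOpen.isoSpec_inv_ι_assoc,
      hε.2 U hU, hchart U hU]

lemma isClosedImmersion_section {A : QCAlg S} (φ : A ⟶ QCAlg.unit S) {ε : S ⟶ A.spec}
    (h1 : ε ≫ A.π = 𝟙 S) (h2 : ∀ (U : S.Opens) (hU : IsAffineOpen U),
      hU.fromSpec ≫ ε = Spec.map (φ.hom.app (op U)) ≫ A.ι U hU) : IsClosedImmersion ε := by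
  rw [IsZariskiLocalAtTarget.iff_of_iSup_eq_top (P := @IsClosedImmersion)
    (fun U : {U : S.Opens // IsAffineOpen U} => A.π ⁻¹ᵁ U.1) ?_]
  · rintro ⟨U, hU⟩
    have hpre : ε ⁻¹ᵁ (A.π ⁻¹ᵁ U) = U := by rw [← Scheme.Hom.comp_preimage, h1]; rfl
    have : IsClosedImmersion (Spec.map (φ.hom.app (op U))) :=
      IsClosedImmersion.spec_of_surjective _ fun r => ⟨_, str_comp_app φ U r⟩
    have e : ε ∣_ (A.π ⁻¹ᵁ U) = (S.isoOfEq hpre).hom ≫ hU.isoSpec.hom ≫ Spec.map (φ.hom.app (op U)) ≫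
        (A.ι U hU).isoOpensRange.hom ≫ (A.spec.isoOfEq (A.π_preimage U hU)).inv := by
      rw [← cancel_mono (A.π ⁻¹ᵁ U).ι, morphismRestrict_ι]
      simp only [Category.assoc, Scheme.isoOfEq_inv_ι, Scheme.Hom.isoOpensRange_hom_ι]
      rw [← h2 U hU, IsAffineOpen.fromSpec, Category.assoc, Iso.hom_inv_id_assoc,
        Scheme.isoOfEq_hom_ι_assoc]
    show IsClosedImmersion (ε ∣_ (A.π ⁻¹ᵁ U))
    rw [e]
    infer_instance
  · rw [eq_top_iff]
    intro x _
    obtain ⟨_, ⟨U, hU, rfl⟩, hxU, -⟩ := S.isBasis_affineOpens.exists_subset_of_mem_open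
      (show A.π x ∈ (⊤ : S.Opens) from trivial) isOpen_univ
    exact Opens.mem_iSup.2 ⟨⟨U, hU⟩, hxU⟩

end Groth.Agent.RelSpecLib
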