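import Groth.Agent.RelSpecLib.Basic

/-! Properties of relative spectra read on the charts. -/

noncomputable section

universe u

open CategoryTheory CategoryTheory.Limits AlgebraicGeometry TopologicalSpace Opposite
open RelSpec

namespace Groth.Agent.RelSpecLib

variable {S : Scheme.{u}} {A B : QCAlg S}

/-- A morphism induced by a homomorphism of algebras has a property local on the target if the maps of charts do. -/
lemma specMap_property (P' : MorphismProperty Scheme.{u}) [IsZariskiLocalAtTarget P'] (φ : A ⟶ B)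
    (H : ∀ (U : S.Opens) (_ : IsAffineOpen U), P' (Spec.map (φ.hom.app (op U)))) : P' (QCAlg.specMap φ) := by
  let 𝒰 : A.spec.OpenCover := Scheme.Cover.mkOfCovers {U : S.Opens // IsAffineOpen U} _ (fun U => A.ι U.1 U.2) (fun x => by
    obtain ⟨_, ⟨U, hU, rfl⟩, hxU, -⟩ :=
      S.isBasis_affineOpens.exists_subset_of_mem_open (show A.π x ∈ (⊤ : S.Opens) from trivial) isOpen_univ
    obtain ⟨z, hz⟩ := exists_ι_apply_eq A x U hU hxU
    exact ⟨⟨U, hU⟩, z, hz⟩)
  refine (IsZariskiLocalAtTarget.iff_of_openCover (P := P') 𝒰).2 ?_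
  rintro ⟨U, hU⟩
  have hrange : QCAlg.specMap φ ⁻¹ᵁ (A.ι U hU).opensRange = (B.ι U hU).opensRange := by
    rw [← A.π_preimage U hU, ← B.π_preimage U hU, ← Scheme.Hom.comp_preimage, QCAlg.specMap_π]
  have hcomm : B.ι U hU ≫ QCAlg.specMap φ = Spec.map (φ.hom.app (op U)) ≫ A.ι U hU := QCAlg.ι_specMap U hU φ
  have pb := IsOpenImmersion.isPullback (Spec.map (φ.hom.app (op U))) (B.ι U hU) (A.ι U hU) (QCAlg.specMap φ) hcomm hrange
  change P' (pullback.snd (QCAlg.specMap φ) (A.ι U hU))
  rw [← pb.flip.isoPullback_inv_snd, MorphismProperty.cancel_left_of_respectsIso P']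
  exact H U hU

/-- The structure morphism has a property local on the target if the structure maps do. -/
lemma π_property (P' : MorphismProperty Scheme.{u}) [IsZariskiLocalAtTarget P']
    (H : ∀ (U : S.Opens) (_ : IsAffineOpen U), P' (Spec.map (A.str.app (op U)))) : P' A.π := by
  let 𝒰 : S.OpenCover := Scheme.Cover.mkOfCovers {U : S.Opens // IsAffineOpen U} _ (fun U => U.2.fromSpec) (fun x => by
    obtain ⟨_, ⟨U, hU, rfl⟩, hxU, -⟩ :=
      S.isBasis_affineOpens.exists_subset_of_mem_open (show x ∈ (⊤ : S.Opens) from trivial) isOpen_univ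
    obtain ⟨z, hz⟩ := (IsAffineOpen.opensRange_fromSpec hU).ge hxU
    exact ⟨⟨U, hU⟩, z, hz⟩)
  refine (IsZariskiLocalAtTarget.iff_of_openCover (P := P') 𝒰).2 ?_
  rintro ⟨U, hU⟩
  have hrange : A.π ⁻¹ᵁ hU.fromSpec.opensRange = (A.ι U hU).opensRange := by
    rw [hU.opensRange_fromSpec, A.π_preimage U hU]
  have pb := IsOpenImmersion.isPullback _ (A.ι U hU) hU.fromSpec A.π (A.ι_π U hU) hrange
  change P' (pullback.snd A.π hU.fromSpec)
  rw [← pb.flip.isoPullback_inv_snd, MorphismProperty.cancel_left_of_respectsIso P']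
  exact H U hU

end Groth.Agent.RelSpecLib
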