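import Groth.Prelude.Def_RelSpec

/-! Charts of a relative spectrum: compatibility along any inclusion of affine opens, hom extensionality,
gluing of morphisms given on the charts over pairs of affine opens. -/

noncomputable section

universe u

open CategoryTheory CategoryTheory.Limits AlgebraicGeometry TopologicalSpace Opposite
open RelSpec

namespace Groth.Agent.RelSpecLib

variable {S : Scheme.{u}} (A : QCAlg S)

lemma fromSpec_top (R : CommRingCat.{u}) :
    (isAffineOpen_top (Spec R)).fromSpec = Spec.map (Scheme.ΓSpecIso R).inv := by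
  rw [IsAffineOpen.fromSpec_top, Scheme.isoSpec_Spec_inv]

/-- The chart over `U` is the affine open `π⁻¹(U)` read through `gammaAff`. -/
lemma ι_eq (U : S.Opens) (hU : IsAffineOpen U) :
    A.ι U hU = Spec.map (A.gammaAff U hU) ≫ (hU.preimage A.π).fromSpec := by
  have h := IsAffineOpen.SpecMap_appLE_fromSpec (A.ι U hU) (hU.preimage A.π)
    (isAffineOpen_top (Spec (A.presheaf.obj (op U)))) (A.top_le_preimage U hU)
  rw [QCAlg.gammaAff, Spec.map_comp, Category.assoc, h, fromSpec_top, ← Spec.map_comp_assoc,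
    Iso.inv_hom_id, Spec.map_id, Category.id_comp]

lemma gammaAff_naturality {U V : S.Opens} (hU : IsAffineOpen U) (hV : IsAffineOpen V) (i : V ≤ U) :
    A.gammaAff U hU ≫ A.presheaf.map (homOfLE i).op =
      A.spec.presheaf.map (homOfLE (A.π.preimage_mono i)).op ≫ A.gammaAff V hV := by
  rw [← A.gammaMap_app U hU, ← A.gammaMap_app V hV]
  exact (A.gammaMap.naturality (homOfLE i).op).symm

/-- The charts are compatible along any inclusion of affine opens. -/
lemma map_res_ι {U V : S.Opens} (hU : IsAffineOpen U) (hV : IsAffineOpen V) (i : V ≤ U) :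
    Spec.map (A.presheaf.map (homOfLE i).op) ≫ A.ι U hU = A.ι V hV := by
  rw [ι_eq, ι_eq, ← Spec.map_comp_assoc, gammaAff_naturality A hU hV i, Spec.map_comp, Category.assoc,
    (hU.preimage A.π).map_fromSpec (hV.preimage A.π) (homOfLE (A.π.preimage_mono i)).op]

lemma exists_ι_apply_eq (x : A.spec) (U : S.Opens) (hU : IsAffineOpen U) (hx : A.π x ∈ U) :
    ∃ y, A.ι U hU y = x := by
  have h : x ∈ (A.ι U hU).opensRange := by rw [← A.π_preimage U hU]; exact hx
  exact h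

lemma hom_ext {Z : Scheme.{u}} {g g' : A.spec ⟶ Z}
    (h : ∀ (U : S.Opens) (hU : IsAffineOpen U), A.ι U hU ≫ g = A.ι U hU ≫ g') : g = g' :=
  colimit.hom_ext fun U => h U.1 U.2

/-- Morphisms out of a relative spectrum: glue a family indexed by affine opens covering the base. -/
lemma existsUnique_glue {Z : Scheme.{u}} (K : S.Opens → Prop)
    (hK : ∀ x : S, ∃ (U : S.Opens) (_ : IsAffineOpen U), x ∈ U ∧ K U)
    (hKmono : ∀ (U V : S.Opens), IsAffineOpen V → V ≤ U → K U → K V)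
    (g : ∀ (U : S.Opens) (hU : IsAffineOpen U), K U → (Spec (A.presheaf.obj (op U)) ⟶ Z))
    (hg : ∀ (U V : S.Opens) (hU : IsAffineOpen U) (hV : IsAffineOpen V) (i : V ≤ U) (kU : K U) (kV : K V),
      Spec.map (A.presheaf.map (homOfLE i).op) ≫ g U hU kU = g V hV kV) :
    ∃! G : A.spec ⟶ Z, ∀ (U : S.Opens) (hU : IsAffineOpen U) (kU : K U), A.ι U hU ≫ G = g U hU kU := by
  let J := {U : S.Opens // IsAffineOpen U ∧ K U}
  let 𝒰 : A.spec.OpenCover := Scheme.Cover.mkOfCovers J (fun U => Spec (A.presheaf.obj (op U.1)))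
    (fun U => A.ι U.1 U.2.1) (fun x => by
      obtain ⟨U, hU, hxU, kU⟩ := hK (A.π x)
      obtain ⟨y, hy⟩ := exists_ι_apply_eq A x U hU hxU
      exact ⟨⟨U, hU, kU⟩, y, hy⟩)
  have agree : ∀ (U V : J), pullback.fst (A.ι U.1 U.2.1) (A.ι V.1 V.2.1) ≫ g U.1 U.2.1 U.2.2 =
      pullback.snd (A.ι U.1 U.2.1) (A.ι V.1 V.2.1) ≫ g V.1 V.2.1 V.2.2 := by
    rintro ⟨U, hU, kU⟩ ⟨V, hV, kV⟩
    let q := pullback.fst (A.ι U hU) (A.ι V hV) ≫ A.ι U hU
    refine Scheme.hom_ext_of_forall _ _ fun x => ?_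
    have hxU : A.π (q x) ∈ U := by
      have h : q x ∈ (A.ι U hU).opensRange := ⟨_, rfl⟩
      rwa [← A.π_preimage U hU] at h
    have hxV : A.π (q x) ∈ V := by
      have h : q x ∈ (A.ι V hV).opensRange :=
        ⟨pullback.snd (A.ι U hU) (A.ι V hV) x, by rw [← Scheme.Hom.comp_apply, ← pullback.condition]⟩
      rwa [← A.π_preimage V hV] at h
    obtain ⟨_, ⟨W, hW, rfl⟩, hxW, hWle⟩ :=
      S.isBasis_affineOpens.exists_subset_of_mem_open (show A.π (q x) ∈ U ⊓ V from ⟨hxU, hxV⟩) (U ⊓ V).2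
    replace hW : IsAffineOpen W := hW
    have iU : W ≤ U := fun y hy => (hWle hy).1
    have iV : W ≤ V := fun y hy => (hWle hy).2
    refine ⟨q ⁻¹ᵁ (A.π ⁻¹ᵁ W), hxW, ?_⟩
    let W' := q ⁻¹ᵁ (A.π ⁻¹ᵁ W)
    have hr : Set.range (W'.ι ≫ q) ⊆ Set.range (A.ι W hW) := by
      rintro _ ⟨y, rfl⟩
      have h : q (W'.ι y) ∈ (A.ι W hW).opensRange := by rw [← A.π_preimage]; exact y.2
      exact h
    let k := IsOpenImmersion.lift (A.ι W hW) (W'.ι ≫ q) hr
    have hk : k ≫ A.ι W hW = W'.ι ≫ q := IsOpenImmersion.lift_fac _ _ _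
    have h1 : k ≫ Spec.map (A.presheaf.map (homOfLE iU).op) =
        W'.ι ≫ pullback.fst (A.ι U hU) (A.ι V hV) := by
      rw [← cancel_mono (A.ι U hU), Category.assoc, map_res_ι A hU hW iU, hk, Category.assoc]
    have h2 : k ≫ Spec.map (A.presheaf.map (homOfLE iV).op) =
        W'.ι ≫ pullback.snd (A.ι U hU) (A.ι V hV) := by
      rw [← cancel_mono (A.ι V hV), Category.assoc, map_res_ι A hV hW iV, hk, Category.assoc]
      simp only [q, pullback.condition]
    change W'.ι ≫ _ = W'.ι ≫ _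
    rw [← reassoc_of% h1, ← reassoc_of% h2, hg U W hU hW iU kU (hKmono U W hW iU kU),
      hg V W hV hW iV kV (hKmono V W hW iV kV)]
  refine ⟨𝒰.glueMorphisms (fun U => g U.1 U.2.1 U.2.2) agree, fun U hU kU =>
    Scheme.Cover.ι_glueMorphisms 𝒰 _ _ ⟨U, hU, kU⟩, fun G hG => Scheme.Cover.hom_ext 𝒰 _ _ fun U =>
      (hG U.1 U.2.1 U.2.2).trans
        (Scheme.Cover.ι_glueMorphisms 𝒰 (fun U => g U.1 U.2.1 U.2.2) agree U).symm⟩

end Groth.Agent.RelSpecLib
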