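import Groth.Agent.RelSpecLib.QMap

/-! `Spec(g^*A) = Spec(A) ×_S S'`. -/

noncomputable section

universe u

open CategoryTheory CategoryTheory.Limits AlgebraicGeometry TopologicalSpace Opposite
open RelSpec

namespace Groth.Agent.RelSpecLib

variable {S S' : Scheme.{u}} {g : S' ⟶ S} {A : QCAlg S} {B : QCAlg S'}

lemma isPullback_of_isQBaseChange (u : QHom g A B) (hu : IsQBaseChange u) {h : B.spec ⟶ A.spec}
    (hh : IsSpecQMap u h) : IsPullback h B.π A.π g := by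
  have w : h ≫ A.π = B.π ≫ g := comp_π u hh
  have pairs : ∀ x : S', ∃ (U : S.Opens) (_ : IsAffineOpen U) (U' : S'.Opens) (_ : IsAffineOpen U'),
      x ∈ U' ∧ U' ≤ g ⁻¹ᵁ U := by
    intro x
    obtain ⟨_, ⟨U, hU, rfl⟩, hxU, -⟩ :=
      S.isBasis_affineOpens.exists_subset_of_mem_open (show g x ∈ (⊤ : S.Opens) from trivial) isOpen_univ
    obtain ⟨_, ⟨U', hU', rfl⟩, hxU', hle⟩ :=
      S'.isBasis_affineOpens.exists_subset_of_mem_open (show x ∈ g ⁻¹ᵁ U from hxU) (g ⁻¹ᵁ U).2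
    exact ⟨U, hU, U', hU', hxU', hle⟩
  choose cU hcU cU' hcU' hmem hle using pairs
  have rangeι : ∀ {T : Scheme.{u}} (t : T ⟶ B.spec) (U' : S'.Opens) (hU' : IsAffineOpen U'),
      Set.range (t ≫ B.π) ⊆ U' → Set.range t ⊆ Set.range (B.ι U' hU') := by
    rintro T t U' hU' hr _ ⟨y, rfl⟩
    exact exists_ι_apply_eq B (t y) U' hU' (hr ⟨y, rfl⟩)
  -- uniqueness
  have uniq : ∀ {T : Scheme.{u}} (t t' : T ⟶ B.spec), t ≫ h = t' ≫ h → t ≫ B.π = t' ≫ B.π → t = t' := by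
    intro T t t' h1 h2
    refine Scheme.hom_ext_of_forall _ _ fun y => ?_
    let x := B.π (t y)
    refine ⟨(t ≫ B.π) ⁻¹ᵁ cU' x, hmem x, ?_⟩
    let V := (t ≫ B.π) ⁻¹ᵁ cU' x
    have r1 : Set.range (V.ι ≫ t) ⊆ Set.range (B.ι (cU' x) (hcU' x)) := by
      refine rangeι _ _ _ ?_
      rintro _ ⟨z, rfl⟩
      exact z.2
    have r2 : Set.range (V.ι ≫ t') ⊆ Set.range (B.ι (cU' x) (hcU' x)) := by
      refine rangeι _ _ _ ?_
      rintro _ ⟨z, rfl⟩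
      rw [Category.assoc, ← h2]
      exact z.2
    let k := IsOpenImmersion.lift (B.ι (cU' x) (hcU' x)) (V.ι ≫ t) r1
    let k' := IsOpenImmersion.lift (B.ι (cU' x) (hcU' x)) (V.ι ≫ t') r2
    have hk : k ≫ B.ι (cU' x) (hcU' x) = V.ι ≫ t := IsOpenImmersion.lift_fac _ _ _
    have hk' : k' ≫ B.ι (cU' x) (hcU' x) = V.ι ≫ t' := IsOpenImmersion.lift_fac _ _ _
    have pb := isPullback_SpecMap_of_isPushout _ _ _ _ (hu (cU x) (hcU x) (cU' x) (hcU' x) (hle x))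
    have ekk : k = k' := by
      apply pb.hom_ext
      · rw [← cancel_mono (hcU' x).fromSpec]
        simp only [Category.assoc]
        rw [← B.ι_π (cU' x) (hcU' x), reassoc_of% hk, reassoc_of% hk', h2]
      · rw [← cancel_mono (A.ι (cU x) (hcU x))]
        simp only [Category.assoc]
        rw [← hh (cU x) (hcU x) (cU' x) (hcU' x) (hle x), reassoc_of% hk, reassoc_of% hk', h1]
    change V.ι ≫ t = V.ι ≫ t'
    rw [← hk, ← hk', ekk]
  -- existence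
  refine ⟨⟨w⟩, ⟨PullbackCone.isLimitAux' _ fun c => ?_⟩⟩
  have hex : ∀ x : S', ∃ t : ((c.snd ⁻¹ᵁ cU' x : c.pt.Opens) : Scheme.{u}) ⟶ B.spec,
      t ≫ h = (c.snd ⁻¹ᵁ cU' x).ι ≫ c.fst ∧ t ≫ B.π = (c.snd ⁻¹ᵁ cU' x).ι ≫ c.snd := by
    intro x
    let V := c.snd ⁻¹ᵁ cU' x
    have rb : Set.range (V.ι ≫ c.snd) ⊆ Set.range (hcU' x).fromSpec := by
      rw [(hcU' x).range_fromSpec]
      rintro _ ⟨z, rfl⟩
      exact z.2
    have ra : Set.range (V.ι ≫ c.fst) ⊆ Set.range (A.ι (cU x) (hcU x)) := by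
      rintro _ ⟨z, rfl⟩
      refine exists_ι_apply_eq A _ _ _ ?_
      rw [← Scheme.Hom.comp_apply, Category.assoc, c.condition]
      exact hle x z.2
    let b := IsOpenImmersion.lift (hcU' x).fromSpec (V.ι ≫ c.snd) rb
    let a := IsOpenImmersion.lift (A.ι (cU x) (hcU x)) (V.ι ≫ c.fst) ra
    have hb : b ≫ (hcU' x).fromSpec = V.ι ≫ c.snd := IsOpenImmersion.lift_fac _ _ _
    have ha : a ≫ A.ι (cU x) (hcU x) = V.ι ≫ c.fst := IsOpenImmersion.lift_fac _ _ _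
    have pb := isPullback_SpecMap_of_isPushout _ _ _ _ (hu (cU x) (hcU x) (cU' x) (hcU' x) (hle x))
    have hcond : b ≫ Spec.map (g.appLE (cU x) (cU' x) (hle x)) = a ≫ Spec.map (A.str.app (op (cU x))) := by
      rw [← cancel_mono (hcU x).fromSpec]
      simp only [Category.assoc]
      rw [IsAffineOpen.SpecMap_appLE_fromSpec g (hcU x) (hcU' x) (hle x), reassoc_of% hb, ← c.condition,
        ← A.ι_π (cU x) (hcU x), reassoc_of% ha]
    refine ⟨pb.lift b a hcond ≫ B.ι (cU' x) (hcU' x), ?_, ?_⟩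
    · rw [Category.assoc, hh (cU x) (hcU x) (cU' x) (hcU' x) (hle x), pb.lift_snd_assoc, ha]
    · rw [Category.assoc, B.ι_π (cU' x) (hcU' x), pb.lift_fst_assoc, hb]
  choose t ht1 ht2 using hex
  let 𝒱 : c.pt.OpenCover := Scheme.Cover.mkOfCovers S' (fun x => (c.snd ⁻¹ᵁ cU' x : c.pt.Opens))
    (fun x => (c.snd ⁻¹ᵁ cU' x).ι) (fun z => ⟨c.snd z, ⟨z, hmem _⟩, rfl⟩)
  have hagree : ∀ x y, pullback.fst (𝒱.f x) (𝒱.f y) ≫ t x = pullback.snd (𝒱.f x) (𝒱.f y) ≫ t y := by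
    have key : ∀ (x y : S') (Q : Scheme.{u}) (q₁ : Q ⟶ (c.snd ⁻¹ᵁ cU' x : c.pt.Opens))
        (q₂ : Q ⟶ (c.snd ⁻¹ᵁ cU' y : c.pt.Opens)),
        q₁ ≫ (c.snd ⁻¹ᵁ cU' x).ι = q₂ ≫ (c.snd ⁻¹ᵁ cU' y).ι → q₁ ≫ t x = q₂ ≫ t y := by
      intro x y Q q₁ q₂ e
      refine uniq _ _ ?_ ?_
      · rw [Category.assoc, Category.assoc, ht1 x, ht1 y, reassoc_of% e]
      · rw [Category.assoc, Category.assoc, ht2 x, ht2 y, reassoc_of% e]
    exact fun x y => key x y _ _ _ pullback.condition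
  have hl : ∀ x, (c.snd ⁻¹ᵁ cU' x).ι ≫ 𝒱.glueMorphisms t hagree = t x := fun x =>
    Scheme.Cover.ι_glueMorphisms 𝒱 t hagree x
  refine ⟨𝒱.glueMorphisms t hagree, ?_, ?_, fun {m} h1 h2 => ?_⟩
  · exact Scheme.Cover.hom_ext 𝒱 _ _ fun x => ((Category.assoc _ _ _).symm.trans (hl x =≫ h)).trans (ht1 x)
  · exact Scheme.Cover.hom_ext 𝒱 _ _ fun x => ((Category.assoc _ _ _).symm.trans (hl x =≫ B.π)).trans (ht2 x)
  · refine uniq _ _ ?_ ?_
    · refine h1.trans (Eq.symm ?_)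
      exact Scheme.Cover.hom_ext 𝒱 _ _ fun x => ((Category.assoc _ _ _).symm.trans (hl x =≫ h)).trans (ht1 x)
    · refine h2.trans (Eq.symm ?_)
      exact Scheme.Cover.hom_ext 𝒱 _ _ fun x => ((Category.assoc _ _ _).symm.trans (hl x =≫ B.π)).trans (ht2 x)

end Groth.Agent.RelSpecLib
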