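import Groth.Agent.RelSpecLib.SpecMapGamma
import Groth.Agent.LimTop.SubAlg
import Groth.Agent.Props.SubExt

/-! Immersions into a relative spectrum factor through the spectrum of a subalgebra of finite type. -/

noncomputable section

universe u

open CategoryTheory CategoryTheory.Limits AlgebraicGeometry TopologicalSpace Opposite
open RelSpec

namespace Groth.Agent.RelSpecLib

/-- An immersion is a closed immersion over an affine open of its coborder. -/
theorem app_surjective_of_le_coborderRange {X Z : Scheme.{u}} (g : X ⟶ Z) [IsImmersion g]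
    {W : Z.Opens} (hW : IsAffineOpen W) (h : W ≤ g.coborderRange) :
    IsAffineOpen (g ⁻¹ᵁ W) ∧ Function.Surjective (g.app W) := by
  have e : g.coborderRange.ι ''ᵁ (g.coborderRange.ι ⁻¹ᵁ W) = W := by
    rw [Scheme.Hom.image_preimage_eq_opensRange_inf, Scheme.Opens.opensRange_ι, inf_eq_right.mpr h]
  have hV : IsAffineOpen (g.coborderRange.ι ⁻¹ᵁ W) :=
    hW.preimage_of_isOpenImmersion g.coborderRange.ι (by rw [Scheme.Opens.opensRange_ι]; exact h)
  refine ⟨?_, ?_⟩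
  · have h1 := hV.preimage g.liftCoborder
    rwa [Scheme.Hom.liftCoborder_preimage, e] at h1
  · have h1 := g.liftCoborder.app_surjective _ hV
    rw [liftCoborder_app] at h1
    suffices ∀ V : Z.Opens, V = g.coborderRange.ι ''ᵁ (g.coborderRange.ι ⁻¹ᵁ W) →
        Function.Surjective (g.app V) from this W e.symm
    rintro V rfl
    intro b
    obtain ⟨a, ha⟩ := h1 (X.presheaf.map
      (eqToHom (g.liftCoborder_preimage (g.coborderRange.ι ⁻¹ᵁ W))).op b)
    exact ⟨a, (ConcreteCategory.bijective_of_isIso (X.presheaf.map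
      (eqToHom (g.liftCoborder_preimage (g.coborderRange.ι ⁻¹ᵁ W))).op)).1 ha⟩

/-- A morphism which is a closed immersion over affine opens covering its image is an immersion. -/
theorem isImmersion_of_local {X Z : Scheme.{u}} (g : X ⟶ Z) {κ : Type*} (W : κ → Z.Opens)
    (hW : ∀ k, IsAffineOpen (W k)) (hcov : ∀ x, ∃ k, g x ∈ W k)
    (haff : ∀ k, IsAffineOpen (g ⁻¹ᵁ W k)) (hsurj : ∀ k, Function.Surjective (g.app (W k))) :
    IsImmersion g := by
  let O : Z.Opens := ⨆ k, W k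
  let l : X ⟶ (O : Scheme.{u}) := IsOpenImmersion.lift O.ι g (by
    rw [Scheme.Opens.range_ι]
    rintro _ ⟨x, rfl⟩
    exact Opens.mem_iSup.mpr (hcov x))
  have hl : l ≫ O.ι = g := IsOpenImmersion.lift_fac _ _ _
  suffices IsClosedImmersion l by rw [← hl]; infer_instance
  rw [IsZariskiLocalAtTarget.iff_of_iSup_eq_top (P := @IsClosedImmersion)
    (fun k => O.ι ⁻¹ᵁ W k) (by
      rw [← Scheme.Hom.preimage_iSup]
      exact Scheme.Opens.ι_preimage_self O)]
  intro k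
  have hle : W k ≤ O.ι.opensRange := by
    rw [Scheme.Opens.opensRange_ι]; exact le_iSup W k
  have : IsAffine ((O.ι ⁻¹ᵁ W k : (O : Scheme.{u}).Opens) : Scheme.{u}) :=
    (hW k).preimage_of_isOpenImmersion O.ι hle
  have hlW : l ⁻¹ᵁ (O.ι ⁻¹ᵁ W k) = g ⁻¹ᵁ W k := by rw [← Scheme.Hom.comp_preimage, hl]
  have hX : IsAffine ((l ⁻¹ᵁ (O.ι ⁻¹ᵁ W k) : X.Opens) : Scheme.{u}) := hlW ▸ haff k
  have hs : Function.Surjective (l.app (O.ι ⁻¹ᵁ W k)) := by
    have h1 := hsurj k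
    rw [Scheme.Hom.congr_app hl.symm (W k), Scheme.Hom.comp_app] at h1
    have hb := ConcreteCategory.bijective_of_isIso (X.presheaf.map (eqToHom hlW.symm).op)
    intro b
    obtain ⟨a, ha⟩ := h1 (X.presheaf.map (eqToHom hlW.symm).op b)
    exact ⟨O.ι.app (W k) a, hb.1 ha⟩
  refine (IsClosedImmersion.hasAffineProperty.{u}.iff_of_isAffine).mpr ⟨hX, ?_⟩
  rw [morphismRestrict_appTop]
  intro a
  obtain ⟨b, hb⟩ := (ConcreteCategory.bijective_of_isIso
    (X.presheaf.map (eqToHom (image_morphismRestrict_preimage l (O.ι ⁻¹ᵁ W k) ⊤)).op)).2 a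
  obtain ⟨c, hc⟩ : ∃ c, (l.app ((O.ι ⁻¹ᵁ W k).ι ''ᵁ ⊤)).hom c = b := by
    suffices ∀ V : (O : Scheme.{u}).Opens, V = O.ι ⁻¹ᵁ W k → Function.Surjective (l.app V).hom from
      this _ ((Scheme.Hom.image_top_eq_opensRange _).trans (Scheme.Opens.opensRange_ι _)) b
    rintro V rfl
    exact hs
  exact ⟨c, by rw [← hb, ← hc]; rfl⟩

variable {X Y : Scheme.{u}}

/-- A factorization through the spectrum of a subalgebra of finite type which is still an
immersion. -/
theorem exists_immersion_subalgebra [CompactSpace Y] [QuasiSeparatedSpace Y] (f : X ⟶ Y)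
    [LocallyOfFiniteType f] [QuasiCompact f] (C : QCAlg Y) (g : X ⟶ C.spec) (hg : g ≫ C.π = f)
    [IsImmersion g] :
    ∃ (C' : QCAlg Y) (φ : C' ⟶ C),
      (∀ U : Y.Opens, Function.Injective (φ.hom.app (op U))) ∧
      (∀ U : Y.affineOpens, (C'.str.app (op (U : Y.Opens))).hom.FiniteType) ∧
      IsImmersion (g ≫ QCAlg.specMap φ) := by
  classical
  have : CompactSpace X := QuasiCompact.compactSpace_of_compactSpace f
  have hγ : ∀ B : QCAlg Y, IsIso B.gammaMap := fun B => Groth.Agent.S8255.result B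
  have hloc : ∀ x : X, ∃ (U : Y.affineOpens) (t : Γ(C.spec, C.π ⁻¹ᵁ U.1)),
      g x ∈ C.spec.basicOpen t ∧ C.spec.basicOpen t ≤ g.coborderRange := by
    intro x
    obtain ⟨U, hU, hxU, -⟩ :=
      exists_isAffineOpen_mem_and_subset (X := Y) (x := f x) (U := ⊤) trivial
    have hx : g x ∈ C.π ⁻¹ᵁ U := by
      show C.π (g x) ∈ U
      rw [← Scheme.Hom.comp_apply, hg]; exact hxU
    obtain ⟨t, ht, hxt⟩ := (hU.preimage C.π).exists_basicOpen_le (V := g.coborderRange)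
      ⟨g x, subset_coborder ⟨x, rfl⟩⟩ hx
    exact ⟨⟨U, hU⟩, t, hxt, ht⟩
  choose U t hxt ht using hloc
  obtain ⟨σ, hσ⟩ := isCompact_univ.elim_finite_subcover
    (fun x => ((g ⁻¹ᵁ C.spec.basicOpen (t x) : X.Opens) : Set X)) (fun x => (Opens.isOpen _))
    fun x _ => Set.mem_iUnion.mpr ⟨x, hxt x⟩
  have hD : ∀ x, IsAffineOpen (C.spec.basicOpen (t x)) := fun x =>
    ((U x).2.preimage C.π).basicOpen (t x)
  have haff := fun x => app_surjective_of_le_coborderRange g (hD x) (ht x)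
  have he : ∀ x, g ⁻¹ᵁ C.spec.basicOpen (t x) ≤ f ⁻¹ᵁ (U x).1 := fun x => by
    rw [← hg, Scheme.Hom.comp_preimage]
    exact g.preimage_mono (C.spec.basicOpen_le _)
  have hgens : ∀ x, ∃ T : Finset Γ(X, g ⁻¹ᵁ C.spec.basicOpen (t x)),
      ∀ R : Subring Γ(X, g ⁻¹ᵁ C.spec.basicOpen (t x)),
        (∀ r, f.appLE (U x).1 _ (he x) r ∈ R) → (∀ y ∈ T, y ∈ R) → R = ⊤ := by
    intro x
    have hft : (f.appLE (U x).1 _ (he x)).hom.FiniteType :=
      HasRingHomProperty.appLE @LocallyOfFiniteType f inferInstance (U x) ⟨_, (haff x).1⟩ (he x)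
    let _ := (f.appLE (U x).1 _ (he x)).hom.toAlgebra
    obtain ⟨T, hT⟩ := (show Algebra.FiniteType Γ(Y, (U x).1)
      Γ(X, g ⁻¹ᵁ C.spec.basicOpen (t x)) from hft).out
    refine ⟨T, fun R hR hTR => top_le_iff.mp fun z _ => ?_⟩
    have hz : z ∈ (Algebra.adjoin Γ(Y, (U x).1) (T : Set _)).toSubring := by
      rw [hT]; trivial
    rw [Algebra.adjoin_eq_ring_closure] at hz
    exact Subring.closure_le.mpr (Set.union_subset (Set.range_subset_iff.mpr hR) hTR) hz
  choose T hT using hgens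
  have hlift : ∀ x (y : Γ(X, g ⁻¹ᵁ C.spec.basicOpen (t x))),
      ∃ (n : ℕ) (a : Γ(C.spec, C.π ⁻¹ᵁ (U x).1)),
        y * g.app _ (C.spec.presheaf.map (homOfLE (C.spec.basicOpen_le (t x))).op (t x)) ^ n =
          g.app _ (C.spec.presheaf.map (homOfLE (C.spec.basicOpen_le (t x))).op a) := by
    intro x y
    obtain ⟨z, rfl⟩ := (haff x).2 y
    have hloc := ((U x).2.preimage C.π).isLocalization_basicOpen (t x)
    obtain ⟨n, a, hna⟩ := IsLocalization.Away.surj (t x) z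
    refine ⟨n, a, ?_⟩
    rw [← map_pow, ← map_mul]
    exact congrArg _ hna
  choose n a hna using hlift
  have hMq := LimTop.SubAlg.isQuasicoherent_toModule C
  obtain ⟨E, j, -, hEq, hEft, hs⟩ := LimTop.SubAlg.exists_sub C.toModule
    (fun W hW s => Props.SubExt.exists_sub_through_section C.toModule W hW s)
    (ι := (x : σ) × Option (T x.1)) (fun i => (U i.1.1).1) (fun i => (U i.1.1).2)
    (fun i => C.gammaMap.app (op (U i.1.1).1) (i.2.elim (t i.1.1) fun y => a i.1.1 y.1))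
  let φ := LimTop.SubAlg.adjoinι j
  refine ⟨LimTop.SubAlg.adjoin j, φ, LimTop.SubAlg.adjoinι_injective j,
    fun V => LimTop.SubAlg.finiteType_adjoin j hEft V.2, ?_⟩
  let C' := LimTop.SubAlg.adjoin j
  let h := QCAlg.specMap φ
  have hhπ : h ≫ C'.π = C.π := QCAlg.specMap_π φ
  have hg' : (g ≫ h) ≫ C'.π = f := by rw [Category.assoc, hhπ, hg]
  -- lifts to the subalgebra
  have hsec : ∀ (V : Y.Opens) (m : Γ(C.spec, C.π ⁻¹ᵁ V)),
      (show C.presheaf.obj (op V) from C.gammaMap.app (op V) m) ∈ LimTop.SubAlg.locGen j V →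
      ∃ m' : Γ(C'.spec, C'.π ⁻¹ᵁ V), h.appLE (C'.π ⁻¹ᵁ V) (C.π ⁻¹ᵁ V)
        (AffAlgLib.le_preimage C'.π C.π hhπ V) m' = m := by
    intro V m hm
    obtain ⟨m', hm'⟩ := (ConcreteCategory.bijective_of_isIso (C'.gammaMap.app (op V))).2
      (⟨_, hm⟩ : LimTop.SubAlg.locGen j V)
    refine ⟨m', (ConcreteCategory.bijective_of_isIso (C.gammaMap.app (op V))).1 ?_⟩
    have e1 := congr($(NatTrans.congr_app (gammaMap_comp φ) (op V)) m')
    rw [NatTrans.comp_app, NatTrans.comp_app, AffAlgLib.algHom_app] at e1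
    refine e1.symm.trans ?_
    show φ.hom.app (op V) (C'.gammaMap.app (op V) m') = _
    rw [hm']
    rfl
  have hmem : ∀ (x : σ) (o : Option (T x.1)),
      (show C.presheaf.obj (op (U x.1).1) from
        C.gammaMap.app (op (U x.1).1) (o.elim (t x.1) fun y => a x.1 y.1)) ∈
          LimTop.SubAlg.locGen j (U x.1).1 := fun x o => by
    obtain ⟨e, he⟩ := hs ⟨x, o⟩
    exact LimTop.SubAlg.gen_le_locGen j _ (he ▸ LimTop.SubAlg.app_mem_gen j e)
  choose t' ht' using fun x : σ => hsec _ _ (hmem x none)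
  have hpre : ∀ x : σ, (g ≫ h) ⁻¹ᵁ C'.spec.basicOpen (t' x) = g ⁻¹ᵁ C.spec.basicOpen (t x.1) := by
    intro x
    rw [Scheme.Hom.comp_preimage]
    congr 1
    have e1 : C.spec.basicOpen (t x.1) = C.π ⁻¹ᵁ (U x.1).1 ⊓ h ⁻¹ᵁ C'.spec.basicOpen (t' x) := by
      conv_lhs => rw [show t x.1 = _ from (ht' x).symm]
      exact Scheme.basicOpen_appLE h _ _ _ _
    rw [e1, right_eq_inf]
    refine (h.preimage_mono (C'.spec.basicOpen_le (t' x))).trans ?_
    rw [← Scheme.Hom.comp_preimage, hhπ]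
  refine isImmersion_of_local (g ≫ h) (fun x : σ => C'.spec.basicOpen (t' x))
    (fun x => ((U x.1).2.preimage C'.π).basicOpen _) (fun y => ?_) (fun x => ?_) fun x => ?_
  · obtain ⟨x, hx, hy⟩ := Set.mem_iUnion₂.mp (hσ (Set.mem_univ y))
    exact ⟨⟨x, hx⟩, (hpre ⟨x, hx⟩).ge hy⟩
  · exact (hpre x).symm ▸ (haff x.1).1
  suffices ∀ (V : X.Opens) (e : V ≤ (g ≫ h) ⁻¹ᵁ C'.spec.basicOpen (t' x)),
      V = g ⁻¹ᵁ C.spec.basicOpen (t x.1) →
      Function.Surjective ((g ≫ h).appLE (C'.spec.basicOpen (t' x)) V e) by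
    have h2 := this _ le_rfl (hpre x)
    rwa [← Scheme.Hom.app_eq_appLE] at h2
  rintro V e rfl
  let D' := C'.spec.basicOpen (t' x)
  let ρ := ((g ≫ h).appLE D' (g ⁻¹ᵁ C.spec.basicOpen (t x.1)) e).hom
  let r' : Γ(C'.spec, C'.π ⁻¹ᵁ (U x.1).1) →+* Γ(C'.spec, D') :=
    (C'.spec.presheaf.map (homOfLE (C'.spec.basicOpen_le (t' x))).op).hom
  -- restrictions of lifted sections
  have hkey : ∀ (m : Γ(C.spec, C.π ⁻¹ᵁ (U x.1).1)) (m' : Γ(C'.spec, C'.π ⁻¹ᵁ (U x.1).1)),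
      h.appLE _ (C.π ⁻¹ᵁ (U x.1).1) (AffAlgLib.le_preimage C'.π C.π hhπ _) m' = m →
      ρ (r' m') =
        g.app _ (C.spec.presheaf.map (homOfLE (C.spec.basicOpen_le (t x.1))).op m) := by
    rintro _ m' rfl
    show ((C'.spec.presheaf.map _ ≫ (g ≫ h).appLE D' _ e) : _ ⟶ _) m' =
      ((h.appLE _ _ _ ≫ C.spec.presheaf.map _ ≫ g.app _) : _ ⟶ _) m'
    rw [Scheme.Hom.map_appLE, Scheme.Hom.app_eq_appLE, Scheme.Hom.map_appLE,
      Scheme.Hom.appLE_comp_appLE]
  have htop : ρ.range = ⊤ := by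
    refine hT x.1 _ ?_ fun y hy => ?_
    · intro r
      have eD : D' ≤ C'.π ⁻¹ᵁ (U x.1).1 := C'.spec.basicOpen_le _
      refine ⟨C'.π.appLE _ D' eD r, ?_⟩
      show ((C'.π.appLE _ D' eD ≫ (g ≫ h).appLE D' _ e) : _ ⟶ _) r = _
      rw [Scheme.Hom.appLE_comp_appLE]
      simp only [hg']
    · obtain ⟨a', ha'⟩ := hsec _ _ (hmem x (some ⟨y, hy⟩))
      obtain ⟨v, hv⟩ : IsUnit (r' (t' x)) :=
        RingedSpace.isUnit_res_basicOpen C'.spec.toRingedSpace (t' x)
      have e1 := hna x.1 y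
      rw [← hkey (t x.1) _ (ht' x), ← hkey (a x.1 y) _ ha', ← hv, ← map_pow] at e1
      refine ⟨r' a' * ↑(v⁻¹ ^ n x.1 y), ?_⟩
      rw [map_mul, ← e1, mul_assoc, ← map_mul, Units.val_pow_eq_pow_val, ← mul_pow, v.mul_inv,
        one_pow, map_one, mul_one]
  exact RingHom.range_eq_top.mp htop

end Groth.Agent.RelSpecLib
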