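import Groth.Agent.RelSpecLib.Basic

/-! Fibre products of relative spectra: `Spec(A ⊗ B) = Spec A ×_S Spec B`. -/

noncomputable section

universe u

open CategoryTheory CategoryTheory.Limits AlgebraicGeometry TopologicalSpace Opposite
open RelSpec

namespace Groth.Agent.RelSpecLib

variable {S : Scheme.{u}} {A B C : QCAlg S}

lemma specMap_preimage (φ : A ⟶ C) {U : S.Opens} (hU : IsAffineOpen U) :
    QCAlg.specMap φ ⁻¹ᵁ (A.ι U hU).opensRange = (C.ι U hU).opensRange := by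
  rw [← A.π_preimage U hU, ← C.π_preimage U hU, ← Scheme.Hom.comp_preimage, QCAlg.specMap_π]

lemma isPullback_chart (φ : A ⟶ C) (ψ : B ⟶ C) {U : S.Opens} (hU : IsAffineOpen U)
    (H : IsPushout (A.str.app (op U)) (B.str.app (op U)) (φ.hom.app (op U)) (ψ.hom.app (op U))) :
    IsPullback (Spec.map (φ.hom.app (op U))) (Spec.map (ψ.hom.app (op U))) (A.ι U hU ≫ A.π) (B.ι U hU ≫ B.π) := by
  have pb := isPullback_SpecMap_of_isPushout _ _ _ _ H
  rw [A.ι_π U hU, B.ι_π U hU]
  exact ⟨⟨by rw [← Category.assoc, ← Category.assoc, pb.w]⟩,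
    ⟨PullbackCone.isLimitOfCompMono _ _ hU.fromSpec _ pb.isLimit⟩⟩

/-- If on affine opens `C = A ⊗ B`, then `Spec C = Spec A ×_S Spec B`. -/
theorem isPullback_specMap (φ : A ⟶ C) (ψ : B ⟶ C)
    (H : ∀ (U : S.Opens) (_ : IsAffineOpen U),
      IsPushout (A.str.app (op U)) (B.str.app (op U)) (φ.hom.app (op U)) (ψ.hom.app (op U))) :
    IsPullback (QCAlg.specMap φ) (QCAlg.specMap ψ) A.π B.π := by
  have w : QCAlg.specMap φ ≫ A.π = QCAlg.specMap ψ ≫ B.π := by rw [QCAlg.specMap_π, QCAlg.specMap_π]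
  let L : C.spec ⟶ pullback A.π B.π := pullback.lift _ _ w
  suffices IsIso L from IsPullback.of_iso_pullback ⟨w⟩ (asIso L) (pullback.lift_fst _ _ _) (pullback.lift_snd _ _ _)
  let J := {U : S.Opens // IsAffineOpen U}
  let k : ∀ U : J, Spec (C.presheaf.obj (op U.1)) ⟶ pullback A.π B.π := fun U =>
    (isPullback_chart φ ψ U.2 (H U.1 U.2)).isoPullback.hom ≫
      pullback.map (A.ι U.1 U.2 ≫ A.π) (B.ι U.1 U.2 ≫ B.π) A.π B.π (A.ι U.1 U.2) (B.ι U.1 U.2) (𝟙 _)
        (Category.comp_id _) (Category.comp_id _)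
  have hk : ∀ U, IsOpenImmersion (k U) := fun U => inferInstance
  have hkr : ∀ U z, z ∈ Set.range (k U) ↔
      pullback.fst A.π B.π z ∈ Set.range (A.ι U.1 U.2) ∧ pullback.snd A.π B.π z ∈ Set.range (B.ι U.1 U.2) := by
    intro U z
    simp only [k, Scheme.Hom.comp_base, TopCat.coe_comp]
    rw [Set.range_comp, Set.range_eq_univ.2 (Scheme.Hom.surjective _), Set.image_univ, Scheme.Pullback.range_map]
    rfl
  let 𝒰 : (pullback A.π B.π).OpenCover := Scheme.Cover.mkOfCovers J (fun U => Spec (C.presheaf.obj (op U.1))) k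
    (fun z => by
      obtain ⟨_, ⟨U, hU, rfl⟩, hxU, -⟩ := S.isBasis_affineOpens.exists_subset_of_mem_open
        (show A.π (pullback.fst A.π B.π z) ∈ (⊤ : S.Opens) from trivial) isOpen_univ
      refine ⟨⟨U, hU⟩, (hkr ⟨U, hU⟩ z).2 ⟨exists_ι_apply_eq A _ U hU hxU, exists_ι_apply_eq B _ U hU ?_⟩⟩
      rw [← Scheme.Hom.comp_apply, ← pullback.condition]
      exact hxU) hk
  refine (IsZariskiLocalAtTarget.iff_of_openCover (P := MorphismProperty.isomorphisms Scheme) 𝒰).2 ?_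
  rintro ⟨U, hU⟩
  have hφ : C.ι U hU ≫ QCAlg.specMap φ = Spec.map (φ.hom.app (op U)) ≫ A.ι U hU := QCAlg.ι_specMap U hU φ
  have hψ : C.ι U hU ≫ QCAlg.specMap ψ = Spec.map (ψ.hom.app (op U)) ≫ B.ι U hU := QCAlg.ι_specMap U hU ψ
  have he : C.ι U hU ≫ L = 𝟙 _ ≫ k ⟨U, hU⟩ := by
    rw [Category.id_comp]
    apply pullback.hom_ext
    · simp only [L, k, Category.assoc, pullback.lift_fst, pullback.map]
      exact hφ.trans ((IsPullback.isoPullback_hom_fst (isPullback_chart φ ψ hU (H U hU)) =≫ A.ι U hU).symm.trans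
        (Category.assoc _ _ _))
    · simp only [L, k, Category.assoc, pullback.lift_snd, pullback.map]
      exact hψ.trans ((IsPullback.isoPullback_hom_snd (isPullback_chart φ ψ hU (H U hU)) =≫ B.ι U hU).symm.trans
        (Category.assoc _ _ _))
  have hrange : L ⁻¹ᵁ (k ⟨U, hU⟩).opensRange = (C.ι U hU).opensRange := by
    apply le_antisymm
    · intro x hx
      have h1 := ((hkr ⟨U, hU⟩ (L x)).1 hx).1
      rw [← Scheme.Hom.comp_apply, pullback.lift_fst] at h1
      exact (specMap_preimage φ hU).le h1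
    · rintro _ ⟨z, rfl⟩
      show L (C.ι U hU z) ∈ (k ⟨U, hU⟩).opensRange
      rw [← Scheme.Hom.comp_apply, he]
      exact ⟨_, rfl⟩
  have pb := IsOpenImmersion.isPullback (𝟙 _) (C.ι U hU) (k ⟨U, hU⟩) L he hrange
  change (MorphismProperty.isomorphisms Scheme) (pullback.snd L (k ⟨U, hU⟩))
  rw [← pb.flip.isoPullback_inv_snd, MorphismProperty.cancel_left_of_respectsIso (MorphismProperty.isomorphisms Scheme)]
  exact MorphismProperty.isomorphisms.infer_property (𝟙 _)

end Groth.Agent.RelSpecLib
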