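import Groth.Agent.RelSpecLib.Local
import Groth.Agent.RelProjLib.QMap
import Groth.Prelude.Def_Mor2
import Mathlib.AlgebraicGeometry.QuasiAffine

/-! A quasi-affine morphism is an open immersion into the relative spectrum of its direct image algebra. -/

set_option autoImplicit false
set_option linter.style.haveILetI false

universe u

open CategoryTheory CategoryTheory.Limits AlgebraicGeometry TopologicalSpace Opposite
open RelSpec

noncomputable section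

namespace Groth.Agent.RelSpecLib

variable {X Y : Scheme.{u}} (f : X ⟶ Y)

theorem isSeparated_of_quasiAffine (hf : Mor2.IsQuasiAffine f) : IsSeparated f := by
  rw [IsZariskiLocalAtTarget.iff_of_iSup_eq_top (P := @IsSeparated) _ (iSup_affineOpens_eq_top Y)]
  rintro ⟨U, hU⟩
  haveI : IsAffine U.toScheme := hU
  haveI := hf.2 U hU
  haveI : IsSeparated ((f ∣_ U) ≫ terminal.from _) :=
    (terminal.hom_ext ((f ∣_ U) ≫ terminal.from _) (terminal.from _)) ▸ Scheme.IsSeparated.isSeparated_terminal_from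
  exact IsSeparated.of_comp (f ∣_ U) (terminal.from _)

/-- The canonical morphism to the spectrum of the direct image algebra. -/
theorem exists_toSpec [QuasiCompact f] [QuasiSeparated f] :
    ∃ g : X ⟶ (QCAlg.directImage f).spec, g ≫ (QCAlg.directImage f).π = f ∧
      ∀ (U : Y.Opens) (hU : IsAffineOpen U),
        (f ⁻¹ᵁ U).ι ≫ g = (f ⁻¹ᵁ U).toSpecΓ ≫ (QCAlg.directImage f).ι U hU := by
  let A := QCAlg.directImage f
  obtain ⟨r, hr, -⟩ := RelProjLib.existsUnique_glue_directed (P := A.spec) (⊤ : X.Opens) (J := Y.affineOpens)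
    (fun U => (f ⁻¹ᵁ U.1).ι) (fun U => by rintro x -; exact ⟨⟨x, trivial⟩, rfl⟩)
    (fun x _ => by
      obtain ⟨U, hU, hxU, -⟩ := exists_isAffineOpen_mem_and_subset (X := Y) (x := f x) (U := ⊤) trivial
      exact ⟨⟨U, hU⟩, ⟨x, hxU⟩, rfl⟩)
    (fun U => (f ⁻¹ᵁ U.1).toSpecΓ ≫ A.ι U.1 U.2)
    (by
      rintro U V x ⟨⟨a, ha⟩, rfl⟩ ⟨⟨b, hb⟩, (rfl : b = a)⟩
      obtain ⟨W, hW, hxW, hWle⟩ := exists_isAffineOpen_mem_and_subset (X := Y) (x := f b)
        (U := U.1 ⊓ V.1) ⟨ha, hb⟩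
      have key : ∀ (T : Y.Opens) (hT : IsAffineOpen T) (i : W ≤ T),
          X.homOfLE (f.preimage_mono i) ≫ (f ⁻¹ᵁ T).toSpecΓ ≫ A.ι T hT = (f ⁻¹ᵁ W).toSpecΓ ≫ A.ι W hW := by
        intro T hT i
        exact ((reassoc_of% (Scheme.Opens.toSpecΓ_SpecMap_presheaf_map (f ⁻¹ᵁ W) (f ⁻¹ᵁ T) (f.preimage_mono i)))
          (A.ι T hT)).symm.trans (congrArg (fun φ => (f ⁻¹ᵁ W).toSpecΓ ≫ φ) (map_res_ι A hT hW i))
      have iU : W ≤ U.1 := fun _ hz => (hWle hz).1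
      have iV : W ≤ V.1 := fun _ hz => (hWle hz).2
      exact ⟨⟨W, hW⟩, X.homOfLE (f.preimage_mono iU), X.homOfLE (f.preimage_mono iV),
        ⟨⟨b, hxW⟩, rfl⟩, X.homOfLE_ι _, key _ U.2 iU, X.homOfLE_ι _, key _ V.2 iV⟩)
  have hg : ∀ (U : Y.Opens) (hU : IsAffineOpen U),
      (f ⁻¹ᵁ U).ι ≫ X.topIso.inv ≫ r = (f ⁻¹ᵁ U).toSpecΓ ≫ A.ι U hU := fun U hU => by
    refine Eq.trans ?_ (hr ⟨U, hU⟩)
    rw [← Category.assoc]
    congr 1
    rw [← cancel_mono (⊤ : X.Opens).ι, IsOpenImmersion.lift_fac, Category.assoc]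
    simp
  refine ⟨X.topIso.inv ≫ r, ?_, hg⟩
  refine Scheme.hom_ext_of_forall _ _ fun x => ?_
  obtain ⟨U, hU, hxU, -⟩ := exists_isAffineOpen_mem_and_subset (X := Y) (x := f x) (U := ⊤) trivial
  refine ⟨f ⁻¹ᵁ U, hxU, ?_⟩
  rw [← Category.assoc, hg U hU, Category.assoc]
  refine (congrArg (fun φ => (f ⁻¹ᵁ U).toSpecΓ ≫ φ) (QCAlg.ι_π A U hU)).trans ?_
  show (f ⁻¹ᵁ U).toSpecΓ ≫ Spec.map (f.app U) ≫ hU.fromSpec = _
  rw [← morphismRestrict_ι f U]
  rw [← Category.assoc, Scheme.Opens.toSpecΓ_naturality, Category.assoc, hU.toSpecΓ_fromSpec]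

/-- A quasi-affine morphism is an open immersion followed by an affine one. -/
theorem exists_openImmersion_directImage [QuasiCompact f] [QuasiSeparated f] (hf : Mor2.IsQuasiAffine f) :
    ∃ g : X ⟶ (QCAlg.directImage f).spec, g ≫ (QCAlg.directImage f).π = f ∧ IsOpenImmersion g := by
  obtain ⟨g, hg, hgι⟩ := exists_toSpec f
  refine ⟨g, hg, ?_⟩
  let A := QCAlg.directImage f
  rw [IsZariskiLocalAtTarget.iff_of_iSup_eq_top (P := @IsOpenImmersion) (fun U : Y.affineOpens => A.π ⁻¹ᵁ U.1)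
    (by rw [← Scheme.Hom.preimage_iSup, iSup_affineOpens_eq_top]; rfl)]
  rintro ⟨U, hU⟩
  haveI := hf.2 U hU
  have e : g ⁻¹ᵁ (A.π ⁻¹ᵁ U) = f ⁻¹ᵁ U := by rw [← Scheme.Hom.comp_preimage, hg]
  haveI : IsOpenImmersion (f ⁻¹ᵁ U).toSpecΓ := by
    unfold Scheme.Opens.toSpecΓ; infer_instance
  haveI : IsOpenImmersion ((f ⁻¹ᵁ U).ι ≫ g) := by
    have h1 : IsOpenImmersion (A.ι U hU) := inferInstance
    rw [hgι U hU]
    exact @IsOpenImmersion.comp _ _ _ _ _ inferInstance h1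
  haveI : IsOpenImmersion ((g ∣_ A.π ⁻¹ᵁ U) ≫ (A.π ⁻¹ᵁ U).ι) := by
    rw [morphismRestrict_ι, ← X.homOfLE_ι e.le, Category.assoc]; infer_instance
  exact IsOpenImmersion.of_comp (g ∣_ A.π ⁻¹ᵁ U) (A.π ⁻¹ᵁ U).ι

end Groth.Agent.RelSpecLib
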